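import Groth.Agent.Lib.RFPlus.DerivedZero

/-! Higher derived functors through syzygies of injective objects. -/

universe v v' u u'

open CategoryTheory CategoryTheory.Limits

set_option autoImplicit false
set_option linter.style.haveILetI false
set_option linter.unusedSectionVars false
set_option backward.isDefEq.respectTransparency false
set_option backward.isDefEq.respectTransparency.types false

namespace Groth.Agent.CmpSit16

noncomputable section

variable {A : Type u} [Category.{v} A] [Abelian A]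

/-- A sequence of syzygies. -/
structure Syz (A : Type u) [Category.{v} A] [Abelian A] where
  /-- the syzygies -/
  S : ℕ → A
  /-- the injective terms -/
  I : ℕ → A
  /-- the inclusions -/
  i : ∀ j, S j ⟶ I j
  /-- the projections -/
  p : ∀ j, I j ⟶ S (j + 1)
  w : ∀ j, i j ≫ p j = 0
  inj : ∀ j, Injective (I j)
  shortExact : ∀ j, (ShortComplex.mk (i j) (p j) (w j)).ShortExact

/-- The short exact sequences. -/
abbrev Syz.sc (c : Syz A) (j : ℕ) : ShortComplex A := ShortComplex.mk (c.i j) (c.p j) (c.w j)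

/-- The syzygies of an object. -/
def syzS [EnoughInjectives A] (F : A) : ℕ → A
  | 0 => F
  | j + 1 => cokernel (Injective.ι (syzS F j))

/-- Syzygies exist. -/
def syzOf [EnoughInjectives A] (F : A) : Syz A where
  S := syzS F
  I j := Injective.under (syzS F j)
  i j := Injective.ι _
  p j := cokernel.π _
  w j := cokernel.condition _
  inj j := inferInstance
  shortExact j := ShortComplex.ShortExact.mk'
    (ShortComplex.exact_of_g_is_cokernel _ (cokernelIsCokernel _)) inferInstance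
    (inferInstanceAs (Epi (cokernel.π _)))

variable {B : Type u'} [Category.{v'} B] [Abelian B]

/-- The image of syzygies under an exact functor preserving injectives. -/
def Syz.map (c : Syz A) (G : A ⥤ B) [G.Additive] [PreservesFiniteLimits G] [PreservesFiniteColimits G]
    (hG : ∀ I : A, Injective I → Injective (G.obj I)) : Syz B where
  S j := G.obj (c.S j)
  I j := G.obj (c.I j)
  i j := G.map (c.i j)
  p j := G.map (c.p j)
  w j := by rw [← G.map_comp, c.w, G.map_zero]
  inj j := hG _ (c.inj j)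
  shortExact j := (c.shortExact j).map_of_exact G

variable [EnoughInjectives A] (G : A ⥤ B) [G.Additive]

/-- `R¹` of the first syzygy. -/
theorem nonempty_R1_iso [PreservesFiniteLimits G] {S : ShortComplex A} (hS : S.ShortExact) [Injective S.X₂] :
    Nonempty ((G.rightDerived 1).obj S.X₁ ≅ cokernel (G.map S.g)) := by
  letI := HasDerivedCategory.standard A
  letI := HasDerivedCategory.standard B
  obtain ⟨w₂, δ, w₃, w₁, e₂, e₃, e₁⟩ := RFPlus.exists_long_exact_sing G S hS 0
  have := RFPlus.isIso_η G S.X₂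
  have := RFPlus.isIso_η G S.X₃
  have hz : IsZero ((RFPlus.HR G 1).obj (RFPlus.sing S.X₂)) :=
    (G.isZero_rightDerived_obj_injective_succ 0 S.X₂).of_iso (RFPlus.rightDerivedIso G S.X₂ 1)
  haveI : Epi δ := e₁.epi_f (hz.eq_of_tgt _ _)
  exact ⟨(RFPlus.rightDerivedIso G S.X₁ 1).symm ≪≫
    (IsColimit.coconePointUniqueUpToIso e₃.gIsCokernel (cokernelIsCokernel _)) ≪≫
    (cokernel.mapIso _ _ (asIso (RFPlus.η G S.X₂)) (asIso (RFPlus.η G S.X₃))
      (RFPlus.η_naturality G S.g)).symm⟩

/-- Dimension shifting. -/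
theorem nonempty_R_shift {S : ShortComplex A} (hS : S.ShortExact) [Injective S.X₂] (a : ℕ) :
    Nonempty ((G.rightDerived (a + 1 + 1)).obj S.X₁ ≅ (G.rightDerived (a + 1)).obj S.X₃) := by
  letI := HasDerivedCategory.standard A
  letI := HasDerivedCategory.standard B
  obtain ⟨w₂, δ, w₃, w₁, e₂, e₃, e₁⟩ := RFPlus.exists_long_exact_sing G S hS ((a + 1 : ℕ) : ℤ)
  have hz : ∀ n : ℕ, IsZero ((RFPlus.HR G ((n + 1 : ℕ) : ℤ)).obj (RFPlus.sing S.X₂)) := fun n =>
    (G.isZero_rightDerived_obj_injective_succ n S.X₂).of_iso (RFPlus.rightDerivedIso G S.X₂ (n + 1))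
  haveI : Mono δ := e₃.mono_g ((hz a).eq_of_src _ _)
  haveI : Epi δ := e₁.epi_f (((hz (a + 1)).of_iso (eqToIso (by push_cast; rfl))).eq_of_tgt _ _)
  haveI : IsIso δ := isIso_of_mono_of_epi _
  exact ⟨(RFPlus.rightDerivedIso G S.X₁ (a + 1 + 1)).symm ≪≫ eqToIso (by push_cast; rfl) ≪≫
    (asIso δ).symm ≪≫ RFPlus.rightDerivedIso G S.X₃ (a + 1)⟩

/-- Iterated dimension shifting along a finite chain. -/
theorem nonempty_R_chain (X : ℕ → A) (m : ℕ)
    (hX : ∀ j, j < m → ∃ T : ShortComplex A, T.ShortExact ∧ Injective T.X₂ ∧ T.X₁ = X j ∧ T.X₃ = X (j + 1))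
    (a : ℕ) : Nonempty ((G.rightDerived (a + m + 1)).obj (X 0) ≅ (G.rightDerived (a + 1)).obj (X m)) := by
  induction m generalizing a with
  | zero => exact ⟨Iso.refl _⟩
  | succ m ih =>
    obtain ⟨e⟩ := ih (fun j hj => hX j (by omega)) (a + 1)
    obtain ⟨T, hT, hI, h₁, h₃⟩ := hX m (by omega)
    haveI := hI
    obtain ⟨e'⟩ := nonempty_R_shift G hT a
    rw [show a + (m + 1) + 1 = a + 1 + m + 1 by omega]
    exact ⟨e ≪≫ (G.rightDerived (a + 1 + 1)).mapIso (eqToIso h₁.symm) ≪≫ e' ≪≫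
      (G.rightDerived (a + 1)).mapIso (eqToIso h₃)⟩

/-- The derived functor at the bottom of a finite chain. -/
theorem nonempty_R_iso_cokernel [PreservesFiniteLimits G] (X : ℕ → A) (m : ℕ)
    (hX : ∀ j, j < m → ∃ T : ShortComplex A, T.ShortExact ∧ Injective T.X₂ ∧ T.X₁ = X j ∧ T.X₃ = X (j + 1))
    {S : ShortComplex A} (hS : S.ShortExact) [Injective S.X₂] (h : S.X₁ = X m) :
    Nonempty ((G.rightDerived (m + 1)).obj (X 0) ≅ cokernel (G.map S.g)) := by
  obtain ⟨e⟩ := nonempty_R_chain G X m hX 0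
  obtain ⟨e'⟩ := nonempty_R1_iso G hS
  rw [show (m + 1) = 0 + m + 1 by omega]
  exact ⟨e ≪≫ (G.rightDerived 1).mapIso (eqToIso h.symm) ≪≫ e'⟩

theorem Syz.chain (c : Syz A) (m : ℕ) : ∀ j, j < m →
    ∃ T : ShortComplex A, T.ShortExact ∧ Injective T.X₂ ∧ T.X₁ = c.S j ∧ T.X₃ = c.S (j + 1) :=
  fun j _ => ⟨c.sc j, c.shortExact j, c.inj j, rfl, rfl⟩

theorem Syz.nonempty_R_iso [PreservesFiniteLimits G] (c : Syz A) (m : ℕ) :
    Nonempty ((G.rightDerived (m + 1)).obj (c.S 0) ≅ cokernel (G.map (c.p m))) :=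
  haveI := c.inj m
  nonempty_R_iso_cokernel G c.S m (c.chain m) (c.shortExact m) rfl

/-- Vanishing of `R^{m+1}` means that the syzygy lifts. -/
theorem Syz.isZero_iff_epi [PreservesFiniteLimits G] (c : Syz A) (m : ℕ) :
    IsZero ((G.rightDerived (m + 1)).obj (c.S 0)) ↔ Epi (G.map (c.p m)) := by
  obtain ⟨e⟩ := c.nonempty_R_iso G m
  rw [e.isZero_iff]
  exact ⟨fun h => Preadditive.epi_of_isZero_cokernel _ h, fun _ => isZero_cokernel_of_epi _⟩

end

end Groth.Agent.CmpSit16
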