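import Groth.Agent.Lib.CmpSit16.Main
import Groth.Agent.Lib.SiteCoh.Rpush

/-! Cohomology classes as sections of syzygies. -/

universe w v u

open CategoryTheory CategoryTheory.Limits Opposite Abelian

set_option autoImplicit false
set_option linter.style.haveILetI false
set_option linter.unusedSectionVars false
set_option backward.isDefEq.respectTransparency false
set_option backward.isDefEq.respectTransparency.types false

namespace Groth.Agent.CmpSit16

noncomputable section

section Generic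

variable {A : Type u} [Category.{v} A] [Abelian A] [HasExt.{w} A]

/-- The composite of the connecting classes. -/
def Syz.cls (c : Syz A) : (m : ℕ) → Ext (c.S m) (c.S 0) m
  | 0 => Ext.mk₀ (𝟙 _)
  | m + 1 => (c.shortExact m).extClass.comp (Syz.cls c m) (by omega : 1 + m = m + 1)

theorem bijective_extClass_postcomp {S : ShortComplex A} (hS : S.ShortExact) [Injective S.X₂] (P : A) (a : ℕ) :
    Function.Bijective (hS.extClass.postcomp P (rfl : a + 1 + 1 = a + 1 + 1)) := by
  refine ⟨(injective_iff_map_eq_zero _).2 fun β hβ => ?_, fun α => Ext.covariant_sequence_exact₁ P hS α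
    (Ext.eq_zero_of_injective _) rfl⟩
  obtain ⟨z, hz⟩ := Ext.covariant_sequence_exact₃ P hS β (rfl : a + 1 + 1 = a + 1 + 1) hβ
  rw [← hz, Ext.eq_zero_of_injective z, Ext.zero_comp]

theorem Syz.bijective_comp_cls (c : Syz A) (P : A) : ∀ (m a N : ℕ) (hN : a + 1 + m = N),
    Function.Bijective ((Syz.cls c m).postcomp P hN)
  | 0, a, N, hN => by
    subst hN
    refine (congrArg Function.Bijective (funext fun β => ?_)).mp (Function.bijective_id)
    exact (Ext.comp_mk₀_id β).symm
  | m + 1, a, N, hN => by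
    haveI : Injective (c.sc m).X₂ := c.inj m
    refine (congrArg Function.Bijective (funext fun β => ?_)).mp
      ((Syz.bijective_comp_cls c P m (a + 1) N (by omega)).comp (bijective_extClass_postcomp (c.shortExact m) P a))
    exact Ext.comp_assoc β _ _ rfl (by omega : 1 + m = m + 1) (by omega)

variable (c : Syz A)

/-- The class of a map to a syzygy. -/
def Syz.classOf (P : A) (m : ℕ) (x : P ⟶ c.S (m + 1)) : Ext P (c.S 0) (m + 1) :=
  (Ext.mk₀ x).comp (c.cls (m + 1)) (zero_add _)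

theorem Syz.classOf_add (P : A) (m : ℕ) (x y : P ⟶ c.S (m + 1)) :
    c.classOf P m (x + y) = c.classOf P m x + c.classOf P m y := by
  simp only [Syz.classOf, Ext.mk₀_add, Ext.add_comp]

theorem Syz.classOf_comp {P Q : A} (φ : Q ⟶ P) (m : ℕ) (x : P ⟶ c.S (m + 1)) :
    c.classOf Q m (φ ≫ x) = (Ext.mk₀ φ).comp (c.classOf P m x) (zero_add _) := by
  simp only [Syz.classOf, Ext.mk₀_comp_mk₀_assoc]

theorem Syz.classOf_eq (P : A) (m : ℕ) (x : P ⟶ c.S (m + 1)) :
    c.classOf P m x = ((Ext.mk₀ x).comp (c.shortExact m).extClass (zero_add 1)).comp (c.cls m)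
      (by omega : 1 + m = m + 1) := by
  simp only [Syz.classOf, Syz.cls]
  exact (Ext.comp_assoc _ _ _ (zero_add 1) _ (by omega)).symm

theorem Syz.classOf_eq_zero_iff (P : A) (m : ℕ) (x : P ⟶ c.S (m + 1)) :
    c.classOf P m x = 0 ↔ ∃ y : P ⟶ c.I m, y ≫ c.p m = x := by
  rw [c.classOf_eq]
  have hb : ∀ (N : ℕ) (hN : 1 + m = N) (β : Ext P (c.S m) 1), β.comp (c.cls m) hN = 0 ↔ β = 0 := by
    rintro N rfl β
    exact ⟨fun hβ => (injective_iff_map_eq_zero _).1 (c.bijective_comp_cls P m 0 _ rfl).1 β hβ,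
      fun hβ => by rw [hβ, Ext.zero_comp]⟩
  rw [hb]
  constructor
  · intro hx
    obtain ⟨z, hz⟩ := Ext.covariant_sequence_exact₃ P (c.shortExact m) (Ext.mk₀ x) (zero_add 1) hx
    obtain ⟨y, rfl⟩ := (Ext.mk₀_bijective P (c.I m)).2 z
    exact ⟨y, (Ext.mk₀_bijective _ _).1 (by rw [← hz, Ext.mk₀_comp_mk₀])⟩
  · rintro ⟨y, rfl⟩
    have h0 : (Ext.mk₀ (c.p m)).comp (c.shortExact m).extClass (zero_add 1) = 0 := (c.shortExact m).comp_extClass
    rw [← Ext.mk₀_comp_mk₀, Ext.comp_assoc_of_second_deg_zero, h0, Ext.comp_zero]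

theorem Syz.surjective_classOf (P : A) (m : ℕ) : Function.Surjective (c.classOf P m) := fun α => by
  haveI := c.inj m
  have hs : ∀ (N : ℕ) (hN : 1 + m = N) (α : Ext P (c.S 0) N), ∃ γ : Ext P (c.S m) 1, γ.comp (c.cls m) hN = α :=
    fun N hN α => (c.bijective_comp_cls P m 0 N hN).2 α
  obtain ⟨γ, hγ⟩ := hs _ (by omega : 1 + m = m + 1) α
  obtain ⟨β, hβ⟩ := Ext.covariant_sequence_exact₁ P (c.shortExact m) γ (Ext.eq_zero_of_injective _) (zero_add 1)
  obtain ⟨x, rfl⟩ := (Ext.mk₀_bijective P (c.S (m + 1))).2 β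
  exact ⟨x, by rw [c.classOf_eq, hβ, hγ]⟩

end Generic

section Site

variable {D : Type u} [SmallCategory D] {T : GrothendieckTopology D} (c : Syz (Sheaf T AddCommGrpCat.{u}))

/-- The class of a section of a syzygy. -/
def Syz.secClass (U : D) (m : ℕ) : (c.S (m + 1)).obj.obj (op U) →+ CohSite.HU (c.S 0) (m + 1) U :=
  AddMonoidHom.mk' (fun s => (c.classOf (SiteCoh.fr T U) m ((SiteCoh.secEquiv U _).symm s) :
      Ext (SiteCoh.fr T U) (c.S 0) (m + 1)))
    (fun s t => by
      show (_ : Ext (SiteCoh.fr T U) (c.S 0) (m + 1)) = _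
      rw [show (SiteCoh.secEquiv U (c.S (m + 1))).symm (s + t) =
          (SiteCoh.secEquiv U _).symm s + (SiteCoh.secEquiv U _).symm t from
        (SiteCoh.secEquiv U _).injective (by
          rw [SiteCoh.secEquiv_add, Equiv.apply_symm_apply, Equiv.apply_symm_apply, Equiv.apply_symm_apply])]
      exact c.classOf_add _ m _ _)

theorem Syz.secClass_res {U V : D} (g : V ⟶ U) (m : ℕ) (s : (c.S (m + 1)).obj.obj (op U)) :
    CohSite.res (c.S 0) (m + 1) g (c.secClass U m s) = c.secClass V m ((c.S (m + 1)).obj.map g.op s) := by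
  change (Ext.mk₀ ((SiteCoh.frP T).map (yoneda.map g))).comp (c.classOf _ m _) (zero_add _) = c.classOf _ m _
  rw [← c.classOf_comp]
  congr 1
  apply (SiteCoh.secEquiv V _).injective
  rw [SiteCoh.secEquiv_res, Equiv.apply_symm_apply, Equiv.apply_symm_apply]

theorem Syz.secClass_eq_zero_iff (U : D) (m : ℕ) (s : (c.S (m + 1)).obj.obj (op U)) :
    c.secClass U m s = 0 ↔ ∃ y, (c.p m).hom.app (op U) y = s := by
  refine (c.classOf_eq_zero_iff _ m _).trans ⟨?_, ?_⟩
  · rintro ⟨y, hy⟩
    refine ⟨SiteCoh.secEquiv U _ y, ?_⟩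
    rw [← SiteCoh.secEquiv_comp, hy, Equiv.apply_symm_apply]
  · rintro ⟨y, hy⟩
    refine ⟨(SiteCoh.secEquiv U _).symm y, (SiteCoh.secEquiv U _).injective ?_⟩
    rw [SiteCoh.secEquiv_comp, Equiv.apply_symm_apply, Equiv.apply_symm_apply, hy]

theorem Syz.surjective_secClass (U : D) (m : ℕ) : Function.Surjective (c.secClass U m) := fun α => by
  obtain ⟨x, hx⟩ := c.surjective_classOf (SiteCoh.fr T U) m α
  exact ⟨SiteCoh.secEquiv U _ x, by
    change c.classOf _ m ((SiteCoh.secEquiv U _).symm (SiteCoh.secEquiv U _ x)) = α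
    rw [Equiv.symm_apply_apply]; exact hx⟩

/-- Degree zero cohomology is the group of sections. -/
def hu0Equiv (F : Sheaf T AddCommGrpCat.{u}) (U : D) : F.obj.obj (op U) ≃+ CohSite.HU F 0 U :=
  (AddEquiv.mk' (SiteCoh.secEquiv U F) (fun x y => SiteCoh.secEquiv_add U x y)).symm.trans
    Ext.addEquiv₀.symm

end Site

end

end Groth.Agent.CmpSit16
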