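import Groth.Agent.Lib.CmpSit16.Classes

/-! Comparing cohomology for the two topologies; killing equalized classes. -/

universe u

open CategoryTheory CategoryTheory.Limits Opposite Abelian

set_option autoImplicit false
set_option linter.style.haveILetI false
set_option linter.unusedSectionVars false
set_option backward.isDefEq.respectTransparency false
set_option backward.isDefEq.respectTransparency.types false

namespace Groth.Agent.CmpSit16

noncomputable section

variable {C : Type u} [SmallCategory C] {J J' : GrothendieckTopology C} {h : J' ≤ J}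
  {P : MorphismProperty C} {A' : ∀ X : C, ObjectProperty (Sheaf (J'.over X) AddCommGrpCat.{u})}
  [∀ X : C, WSerre.IsWeakSerre (A' X)] (hs : Sit P A' (J := J) (J' := J'))

/-- The syzygies regarded for the coarser topology. -/
def epsSyz (hV : ∀ n, Van h A' n) {X : C} (c : Syz (Sheaf (J.over X) AddCommGrpCat.{u}))
    (hc : A' X ((εX h X).obj (c.S 0))) : Syz (Sheaf (J'.over X) AddCommGrpCat.{u}) where
  S j := (εX h X).obj (c.S j)
  I j := (εX h X).obj (c.I j)
  i j := (εX h X).map (c.i j)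
  p j := (εX h X).map (c.p j)
  w j := by rw [← Functor.map_comp, c.w, Functor.map_zero]
  inj j := injective_εA (SiteCmp.over_le h X) _ (c.inj j)
  shortExact j := shortExact_εX (hV (j + 1)) c hc j (Nat.lt_succ_self j)

theorem nonempty_HU_equiv (hV : ∀ n, Van h A' n) {X : C} (G : Sheaf (J.over X) AddCommGrpCat.{u})
    (hG : A' X ((εX h X).obj G)) (n : ℕ) (U : Over X) :
    Nonempty (CohSite.HU ((εX h X).obj G) n U ≃+ CohSite.HU G n U) := by
  cases n with
  | zero =>
    exact ⟨(hu0Equiv ((εX h X).obj G) U).symm.trans (hu0Equiv G U)⟩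
  | succ m =>
    let c := syzOf G
    let c' := epsSyz hV c hG
    have hker : (c'.secClass U m).ker = (c.secClass U m).ker :=
      AddSubgroup.ext fun s => (c'.secClass_eq_zero_iff U m s).trans (c.secClass_eq_zero_iff U m s).symm
    exact ⟨(QuotientAddGroup.quotientKerEquivOfSurjective _ (c'.surjective_secClass U m)).symm.trans
      ((QuotientAddGroup.quotientAddEquivOfEq hker).trans
        (QuotientAddGroup.quotientKerEquivOfSurjective _ (c.surjective_secClass U m)))⟩

theorem nonempty_epsShInv_iso {X : C} (G : Sheaf (J.over X) AddCommGrpCat.{u}) :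
    Nonempty ((SiteCmp.epsShInv (SiteCmp.over_le h X) AddCommGrpCat.{u}).obj ((εX h X).obj G) ≅ G) := by
  haveI := SiteCmp.idContinuous (SiteCmp.over_le h X)
  haveI : (SiteCmp.epsSh (SiteCmp.over_le h X) AddCommGrpCat.{u}).Full := full_εA (SiteCmp.over_le h X)
  haveI : (SiteCmp.epsSh (SiteCmp.over_le h X) AddCommGrpCat.{u}).Faithful := faithful_εA (SiteCmp.over_le h X)
  exact ⟨asIso ((SiteCmp.epsShAdj (SiteCmp.over_le h X) AddCommGrpCat.{u}).counit.app G)⟩

theorem nonempty_HU_congr {D : Type u} [SmallCategory D] {T : GrothendieckTopology D}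
    {F G : Sheaf T AddCommGrpCat.{u}} (e : F ≅ G) (n : ℕ) (U : D) :
    Nonempty (CohSite.HU F n U ≃+ CohSite.HU G n U) :=
  ⟨(((Sheaf.cohomologyPresheafFunctor T n).mapIso e).app (op U)).addCommGroupIsoToAddEquiv⟩

include hs in
theorem nonempty_HU_equiv_epsShInv (h5 : Refines J J' P) {X : C} (F' : Sheaf (J'.over X) AddCommGrpCat.{u})
    (hF' : A' X F') (n : ℕ) (U : Over X) :
    Nonempty (CohSite.HU F' n U ≃+
      CohSite.HU ((SiteCmp.epsShInv (SiteCmp.over_le h X) AddCommGrpCat.{u}).obj F') n U) := by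
  obtain ⟨G, ⟨e⟩⟩ := exists_epsSh_obj_eq (SiteCmp.over_le h X) F' (hs.h3 X F' hF')
  obtain ⟨a⟩ := nonempty_HU_congr e n U
  obtain ⟨b⟩ := nonempty_HU_equiv (h := h) (van_all hs h5) G ((A' X).prop_of_iso e.symm hF') n U
  obtain ⟨i⟩ := nonempty_epsShInv_iso (h := h) G
  obtain ⟨d⟩ := nonempty_HU_congr
    ((SiteCmp.epsShInv (SiteCmp.over_le h X) AddCommGrpCat.{u}).mapIso e.symm ≪≫ i) n U
  exact ⟨a.symm.trans (b.trans d.symm)⟩

include hs in
/-- An equalized class dies on the base changes of a covering of the base. -/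
theorem exists_cover_killing {X Y : C} (f : X ⟶ Y) (hf : P f)
    (hcov : Sieve.ofArrows (fun _ : PUnit.{u + 1} => X) (fun _ => f) ∈ J Y)
    (F' : Sheaf (J'.over Y) AddCommGrpCat.{u}) (hF' : A' Y F') (n : ℕ)
    (θ : CohSite.HU F' (n + 1) (Over.mk f))
    (hθ : ∀ (W : C) (p q : W ⟶ X) (hW : IsPullback p q f f),
      CohSite.res F' (n + 1) (Over.homMk p rfl : Over.mk (p ≫ f) ⟶ Over.mk f) θ =
        CohSite.res F' (n + 1) (Over.homMk q hW.w.symm : Over.mk (p ≫ f) ⟶ Over.mk f) θ) :
    ∃ (ι : Type u) (Z : ι → C) (g : ∀ i, Z i ⟶ Y), Sieve.ofArrows Z g ∈ J' Y ∧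
      ∀ (i : ι) (W : C) (p : W ⟶ Z i) (q : W ⟶ X), IsPullback p q (g i) f →
        CohSite.res F' (n + 1) (Over.homMk q rfl : Over.mk (q ≫ f) ⟶ Over.mk f) θ = 0 := by
  haveI : HasPullbacksAlong f := hasPullbacksAlong hs hf
  let c : Syz (Sheaf (J'.over Y) AddCommGrpCat.{u}) := syzOf F'
  have hres : ∀ {U V : Over Y} (g : V ⟶ U) (x : (c.S (n + 1)).obj.obj (op U)),
      CohSite.res F' (n + 1) g (c.secClass U n x) = c.secClass V n ((c.S (n + 1)).obj.map g.op x) :=
    fun g x => c.secClass_res g n x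
  obtain ⟨b, rfl⟩ : ∃ b, c.secClass (Over.mk f) n b = θ := c.surjective_secClass _ n θ
  haveI : Epi (c.p n) := (c.shortExact n).epi_g
  haveI : Injective ((c.sc n).map (rMap J' f)).X₂ := injective_rMap J' f _ (c.inj n)
  have hM : A' Y (cokernel ((fPP J' f).map (c.p n))) := by
    obtain ⟨e⟩ := (c.map (rMap J' f) (fun I hI => injective_rMap J' f I hI)).nonempty_R_iso (fTo J' f) n
    exact (A' Y).prop_of_iso e (mem_fTo_rightDerived hs f hf _ (hs.h2 f _ hF') (n + 1))
  let W := (Over.map f).obj ((Over.pullback f).obj (Over.mk f))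
  let k : W ⟶ Over.mk (pullback.fst f f ≫ f) := Over.homMk (𝟙 (pullback f f)) (by
    change 𝟙 (pullback f f) ≫ pullback.fst f f ≫ f = pullback.snd f f ≫ f
    rw [Category.id_comp, pullback.condition])
  let m₁ : Over.mk (pullback.fst f f ≫ f) ⟶ Over.mk f := Over.homMk (pullback.fst f f) rfl
  let m₂ : Over.mk (pullback.fst f f ≫ f) ⟶ Over.mk f := Over.homMk (pullback.snd f f) pullback.condition.symm
  have hp := congrArg (CohSite.res F' (n + 1) k) (hθ _ _ _ (IsPullback.of_hasPullback f f))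
  rw [show CohSite.res F' (n + 1) m₁ _ = _ from hres m₁ b, show CohSite.res F' (n + 1) m₂ _ = _ from hres m₂ b,
    hres, hres, map_map, map_map, map_congr' (c.S (n + 1)).obj (show k ≫ m₁ = cntTo f (Over.mk f) from
      Over.OverMorphism.ext ((Category.id_comp (pullback.fst f f)).trans (by simp [cntTo]))) b,
    map_congr' (c.S (n + 1)).obj (show k ≫ m₂ = sndTo f (Over.mk f) from
      Over.OverMorphism.ext (Category.id_comp _)) b] at hp
  obtain ⟨y, hy⟩ := (c.secClass_eq_zero_iff _ n _).1 (by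
    rw [map_sub]
    exact sub_eq_zero.2 hp.symm)
  obtain ⟨S, hS, hS'⟩ := exists_cover_lifts_pullback (J := J) f hcov (c.p n) (hs.h3 Y _ hM) b
    ((epi_iff_lifts (c.p n)).1 inferInstance _ b) y hy
  refine ⟨Σ Z : Over Y, { g : Z ⟶ Over.mk (𝟙 Y) // S g }, fun i => i.1.left, fun i => i.1.hom, ?_, ?_⟩
  · rw [GrothendieckTopology.mem_over_iff] at hS
    refine J'.superset_covering ?_ hS
    intro V a ha
    exact ⟨V, 𝟙 V, a ≫ 𝟙 Y, Presieve.ofArrows.mk (⟨Over.mk (a ≫ 𝟙 Y), ⟨_, (Sieve.overEquiv_iff _ _).1 ha⟩⟩ :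
      Σ Z : Over Y, { g : Z ⟶ Over.mk (𝟙 Y) // S g }), by simp⟩
  · rintro ⟨Z, g, hg⟩ W₁ p q hW
    obtain ⟨t, ht⟩ := hS' g hg
    let e : Over.mk (q ≫ f) ⟶ (Over.map f).obj ((Over.pullback f).obj Z) :=
      Over.homMk (pullback.lift p q hW.w) (by
        change pullback.lift p q hW.w ≫ pullback.snd _ _ ≫ f = q ≫ f
        rw [pullback.lift_snd_assoc])
    let m : Over.mk (q ≫ f) ⟶ Over.mk f := Over.homMk q rfl
    rw [show CohSite.res F' (n + 1) m _ = _ from hres m b]
    refine (c.secClass_eq_zero_iff _ n _).2 ⟨(c.I n).obj.map e.op t, ?_⟩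
    rw [NatTrans.naturality_apply, ht, map_map]
    refine map_congr' (c.S (n + 1)).obj ?_ b
    apply Over.OverMorphism.ext
    simp [e, m, sndTo]

end

end Groth.Agent.CmpSit16
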