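import Groth.Agent.Lib.CmpSit16.Situation

/-! Comparing two topologies: `R^n ε_* = 0` on the subcategory. -/

universe u

open CategoryTheory CategoryTheory.Limits Opposite Abelian

set_option autoImplicit false
set_option linter.style.haveILetI false
set_option linter.unusedSectionVars false
set_option backward.isDefEq.respectTransparency false
set_option backward.isDefEq.respectTransparency.types false

namespace Groth.Agent.CmpSit16

noncomputable section

section Sec

variable {D : Type u} [SmallCategory D] {T : GrothendieckTopology D} {F G H : Sheaf T AddCommGrpCat.{u}}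

theorem app_comp (φ : F ⟶ G) (ψ : G ⟶ H) (U : D) (s : F.obj.obj (op U)) :
    (φ ≫ ψ).hom.app (op U) s = ψ.hom.app (op U) (φ.hom.app (op U) s) := rfl

theorem app_comm {K : Sheaf T AddCommGrpCat.{u}} {φ : F ⟶ G} {ψ : G ⟶ H} {φ' : F ⟶ K} {ψ' : K ⟶ H}
    (e : φ ≫ ψ = φ' ≫ ψ') (U : D) (s : F.obj.obj (op U)) :
    ψ.hom.app (op U) (φ.hom.app (op U) s) = ψ'.hom.app (op U) (φ'.hom.app (op U) s) := by
  rw [← app_comp, ← app_comp, e]

theorem app_zero {φ : F ⟶ G} {ψ : G ⟶ H} (e : φ ≫ ψ = 0) (U : D) (s : F.obj.obj (op U)) :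
    ψ.hom.app (op U) (φ.hom.app (op U) s) = 0 := by
  rw [← app_comp, e]
  rfl

end Sec

section Abelian

variable {A : Type*} [Category A] [Abelian A]
variable (G : A ⥤ A) [G.Additive] [PreservesFiniteLimits G] (η : ∀ X : A, X ⟶ G.obj X)
  (hη : ∀ {X Y : A} (g : X ⟶ Y), g ≫ η Y = η X ≫ G.map g) [∀ X, Mono (η X)]

/-- The map on cokernels of the unit. -/
def qmap {X Y : A} (g : X ⟶ Y) : cokernel (η X) ⟶ cokernel (η Y) :=
  cokernel.map _ _ g (G.map g) (hη g).symm

theorem π_qmap {X Y : A} (g : X ⟶ Y) :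
    cokernel.π (η X) ≫ qmap G η hη g = G.map g ≫ cokernel.π (η Y) :=
  cokernel.π_desc _ _ _

theorem qmap_comp_zero {X Y Z : A} (a : X ⟶ Y) (b : Y ⟶ Z) (w : a ≫ b = 0) :
    qmap G η hη a ≫ qmap G η hη b = 0 := by
  apply coequalizer.hom_ext
  rw [reassoc_of% (π_qmap G η hη a), π_qmap, ← Functor.map_comp_assoc, w, Functor.map_zero, zero_comp, comp_zero]

variable {S : ShortComplex A} (hS : S.ShortExact)

include hS in
theorem mono_qmap : Mono (qmap G η hη S.f) := by
  haveI := hS.mono_f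
  have hG := G.preservesFiniteLimits_iff_forall_exact_map_and_mono.1 inferInstance S hS
  haveI : Mono (G.map S.f) := hG.2
  refine Preadditive.mono_of_cancel_zero _ fun {T} x hx => ?_
  obtain ⟨T₁, a, ha, t, ht⟩ := surjective_up_to_refinements_of_epi (cokernel.π (η S.X₁)) x
  obtain ⟨T₂, b, hb, z, hz⟩ := (ShortComplex.exact_of_g_is_cokernel
    (ShortComplex.mk _ _ (cokernel.condition (η S.X₂))) (cokernelIsCokernel _)).exact_up_to_refinements
    (t ≫ G.map S.f) (by
      change (t ≫ G.map S.f) ≫ cokernel.π _ = 0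
      rw [Category.assoc, ← π_qmap G η hη, ← reassoc_of% ht, hx, comp_zero])
  change b ≫ t ≫ G.map S.f = z ≫ η S.X₂ at hz
  have h0 : z ≫ S.g = 0 := (cancel_mono (η S.X₃)).1 (by
    rw [Category.assoc, hη, ← reassoc_of% hz, ← Functor.map_comp, S.zero, Functor.map_zero, comp_zero,
      comp_zero, zero_comp])
  let s := hS.exact.lift z h0
  have hs : b ≫ t = s ≫ η S.X₁ := (cancel_mono (G.map S.f)).1 (by
    rw [Category.assoc, Category.assoc, ← hη, hz, ← Category.assoc s, hS.exact.lift_f])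
  have h2 : (b ≫ a) ≫ x = 0 := by
    rw [Category.assoc, ht, ← Category.assoc, hs, Category.assoc, cokernel.condition, comp_zero]
  exact (cancel_epi (b ≫ a)).1 (h2.trans comp_zero.symm)

include hS in
theorem exact_qmap :
    (ShortComplex.mk (qmap G η hη S.f) (qmap G η hη S.g) (qmap_comp_zero G η hη _ _ S.zero)).Exact := by
  have hG := G.preservesFiniteLimits_iff_forall_exact_map_and_mono.1 inferInstance S hS
  haveI := hS.epi_g
  rw [ShortComplex.exact_iff_exact_up_to_refinements]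
  intro T e he
  obtain ⟨T₁, a, ha, y, hy⟩ := surjective_up_to_refinements_of_epi (cokernel.π (η S.X₂)) e
  obtain ⟨T₂, b, hb, x, hx⟩ := (ShortComplex.exact_of_g_is_cokernel
    (ShortComplex.mk _ _ (cokernel.condition (η S.X₃))) (cokernelIsCokernel _)).exact_up_to_refinements
    (y ≫ G.map S.g) (by
      change (y ≫ G.map S.g) ≫ cokernel.π _ = 0
      rw [Category.assoc, ← π_qmap G η hη, ← reassoc_of% hy]
      exact (congrArg (a ≫ ·) he).trans comp_zero)
  change b ≫ y ≫ G.map S.g = x ≫ η S.X₃ at hx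
  obtain ⟨T₃, c, hc, z, hz⟩ := surjective_up_to_refinements_of_epi S.g x
  obtain ⟨T₄, d, hd, t, ht⟩ := hG.1.exact_up_to_refinements (c ≫ b ≫ y - z ≫ η S.X₂) (by
    change (c ≫ b ≫ y - z ≫ η S.X₂) ≫ G.map S.g = 0
    rw [Preadditive.sub_comp, Category.assoc, Category.assoc, Category.assoc, hx, ← hη,
      reassoc_of% hz, sub_self])
  refine ⟨T₄, d ≫ c ≫ b ≫ a, inferInstance, t ≫ cokernel.π _, ?_⟩
  change (d ≫ c ≫ b ≫ a) ≫ e = (t ≫ cokernel.π _) ≫ qmap G η hη S.f
  change d ≫ (c ≫ b ≫ y - z ≫ η S.X₂) = t ≫ G.map S.f at ht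
  rw [Category.assoc t, π_qmap, ← reassoc_of% ht]
  simp only [Category.assoc, Preadditive.sub_comp, cokernel.condition, comp_zero, sub_zero, hy]

theorem mono_qmap' {X₀ Y₀ Z₀ : A} (a : X₀ ⟶ Y₀) (b : Y₀ ⟶ Z₀) (w : a ≫ b = 0)
    (h : (ShortComplex.mk a b w).ShortExact) : Mono (qmap G η hη a) :=
  mono_qmap G η hη h

theorem exact_qmap' {X₀ Y₀ Z₀ : A} (a : X₀ ⟶ Y₀) (b : Y₀ ⟶ Z₀) (w : a ≫ b = 0)
    (h : (ShortComplex.mk a b w).ShortExact) :
    (ShortComplex.mk (qmap G η hη a) (qmap G η hη b) (qmap_comp_zero G η hη a b w)).Exact :=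
  exact_qmap G η hη h

variable {Y Z : A} (g : Y ⟶ Z) [Epi g]

/-- The projection to the cokernel of `G g`. -/
def γmap : cokernel (η Z) ⟶ cokernel (G.map g) :=
  cokernel.desc _ (cokernel.π (G.map g)) (by
    rw [← cancel_epi g, reassoc_of% (hη g), cokernel.condition, comp_zero, comp_zero])

theorem π_γmap : cokernel.π (η Z) ≫ γmap G η hη g = cokernel.π (G.map g) :=
  cokernel.π_desc _ _ _

theorem qmap_γmap : qmap G η hη g ≫ γmap G η hη g = 0 := by
  apply coequalizer.hom_ext
  rw [reassoc_of% (π_qmap G η hη g), π_γmap, cokernel.condition, comp_zero]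

theorem exact_γmap : (ShortComplex.mk (qmap G η hη g) (γmap G η hη g) (qmap_γmap G η hη g)).Exact := by
  rw [ShortComplex.exact_iff_exact_up_to_refinements]
  intro T q hq
  obtain ⟨T₁, a, ha, x, hx⟩ := surjective_up_to_refinements_of_epi (cokernel.π (η Z)) q
  obtain ⟨T₂, b, hb, y, hy⟩ := (ShortComplex.exact_of_g_is_cokernel
    (ShortComplex.mk _ _ (cokernel.condition (G.map g))) (cokernelIsCokernel _)).exact_up_to_refinements x (by
      change x ≫ cokernel.π (G.map g) = 0
      rw [← π_γmap G η hη, ← reassoc_of% hx]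
      exact (congrArg (a ≫ ·) hq).trans comp_zero)
  change b ≫ x = y ≫ G.map g at hy
  refine ⟨T₂, b ≫ a, inferInstance, y ≫ cokernel.π _, ?_⟩
  change (b ≫ a) ≫ q = (y ≫ cokernel.π _) ≫ qmap G η hη g
  rw [Category.assoc, Category.assoc, π_qmap, hx, reassoc_of% hy]

include hS in
/-- The two short exact sequences linking successive cokernels of the unit. -/
theorem exists_two_sequences :
    ∃ (B : A) (b : cokernel (η S.X₂) ⟶ B) (ι : B ⟶ cokernel (η S.X₃))
      (γ : cokernel (η S.X₃) ⟶ cokernel (G.map S.g)) (w₁ : qmap G η hη S.f ≫ b = 0) (w₂ : ι ≫ γ = 0),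
      b ≫ ι = qmap G η hη S.g ∧ cokernel.π (η S.X₃) ≫ γ = cokernel.π (G.map S.g) ∧
      (ShortComplex.mk _ _ w₁).ShortExact ∧ (ShortComplex.mk _ _ w₂).ShortExact := by
  haveI := hS.epi_g
  haveI := mono_qmap G η hη hS
  let γ := γmap G η hη S.g
  haveI : Epi γ := epi_of_epi_fac (π_γmap G η hη S.g)
  let b : cokernel (η S.X₂) ⟶ kernel γ := kernel.lift γ (qmap G η hη S.g) (qmap_γmap G η hη S.g)
  haveI : Epi b := (exact_γmap G η hη S.g).epi_kernelLift
  have hb : b ≫ kernel.ι γ = qmap G η hη S.g := kernel.lift_ι _ _ _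
  refine ⟨kernel γ, b, kernel.ι γ, γ, (cancel_mono (kernel.ι γ)).1 ?_, kernel.condition γ, hb,
    π_γmap G η hη S.g, ?_, ?_⟩
  · rw [Category.assoc, hb, zero_comp]
    exact qmap_comp_zero G η hη _ _ S.zero
  · refine ShortComplex.ShortExact.mk' ?_ inferInstance (inferInstanceAs (Epi b))
    rw [ShortComplex.exact_iff_exact_up_to_refinements]
    intro T x hx
    exact (exact_qmap G η hη hS).exact_up_to_refinements x
      ((congrArg (x ≫ ·) hb).symm.trans ((Category.assoc _ _ _).symm.trans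
        ((congrArg (· ≫ kernel.ι γ) hx).trans zero_comp)))
  · exact ShortComplex.ShortExact.mk' (ShortComplex.exact_of_f_is_kernel _ (kernelIsKernel _)) inferInstance
      (inferInstanceAs (Epi γ))

include hS in
/-- Epimorphy of the image of the projection propagates to the next syzygy. -/
theorem epi_map_π_next {D : Type*} [Category D] [Abelian D] (F : A ⥤ D) [F.Additive] [PreservesFiniteLimits F]
    (hE : Epi (F.map (cokernel.π (η S.X₂)))) (hG : Epi (F.map (cokernel.π (G.map S.g))))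
    (hB : ∀ (B : A) (b : cokernel (η S.X₂) ⟶ B) (w : qmap G η hη S.f ≫ b = 0),
      (ShortComplex.mk _ _ w).ShortExact → Epi (F.map b)) :
    Epi (F.map (cokernel.π (η S.X₃))) := by
  obtain ⟨B, b, ι, γ, w₁, w₂, hb, hγ, h₁, h₂⟩ := exists_two_sequences G η hη hS
  haveI := hB B b w₁ h₁
  haveI : Epi (F.map γ) := by
    have : Epi (F.map (cokernel.π (η S.X₃)) ≫ F.map γ) := by
      rw [← F.map_comp, hγ]
      infer_instance
    exact epi_of_epi (F.map (cokernel.π (η S.X₃))) _
  refine Preadditive.epi_of_cancel_zero _ fun {T} k hk => ?_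
  have h3 : F.map ι ≫ k = 0 := by
    rw [← cancel_epi (F.map (cokernel.π (η S.X₂)) ≫ F.map b), comp_zero, Category.assoc,
      ← F.map_comp_assoc b, hb, ← F.map_comp_assoc, π_qmap, F.map_comp, Category.assoc, hk, comp_zero]
  have hex := (F.preservesFiniteLimits_iff_forall_exact_map_and_mono.1 inferInstance _ h₂).1
  haveI : Epi ((ShortComplex.mk _ _ w₂).map F).g := inferInstanceAs (Epi (F.map γ))
  obtain ⟨d, hd⟩ := CokernelCofork.IsColimit.desc' hex.gIsCokernel k h3
  change F.map γ ≫ d = k at hd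
  have h4 : F.map (cokernel.π (G.map S.g)) ≫ d = 0 := by
    rw [← hγ, F.map_comp, Category.assoc, hd, hk]
  rw [← hd, (cancel_epi (F.map (cokernel.π (G.map S.g)))).1 (h4.trans comp_zero.symm), comp_zero]

end Abelian

variable {C : Type u} [SmallCategory C] {J J' : GrothendieckTopology C} {h : J' ≤ J}
  {P : MorphismProperty C} {A' : ∀ X : C, ObjectProperty (Sheaf (J'.over X) AddCommGrpCat.{u})}
  [∀ X : C, WSerre.IsWeakSerre (A' X)] (hs : Sit P A' (J := J) (J' := J'))

section Cover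

variable {X Y : C} (f : X ⟶ Y) [HasPullbacksAlong f] (hf : P f)
  (hcov : Sieve.ofArrows (fun _ : PUnit.{u + 1} => X) (fun _ => f) ∈ J Y)
  (c : Syz (Sheaf (J.over Y) AddCommGrpCat.{u})) (hc : A' Y ((εX h Y).obj (c.S 0)))

/-- The unit of `f^* ⊣ f_*`. -/
def ηf (G : Sheaf (J.over Y) AddCommGrpCat.{u}) : G ⟶ (fPP J f).obj G := (fToAdj J f).unit.app G

theorem ηf_nat {G G' : Sheaf (J.over Y) AddCommGrpCat.{u}} (g : G ⟶ G') :
    g ≫ ηf f G' = ηf f G ≫ (fPP J f).map g :=
  (fToAdj J f).unit.naturality g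

include hcov in
theorem mono_ηf (G : Sheaf (J.over Y) AddCommGrpCat.{u}) : Mono (ηf (J := J) f G) := mono_unit J f hcov G

include hs hf hc in
theorem mem_cokernel_η : A' Y (cokernel ((εX h Y).map (ηf (J := J) f (c.S 0)))) :=
  (A' Y).prop_cokernel _ hc (mem_fPP hs f hf _ hc)

include hcov in
/-- The splitting of the unit at an injective. -/
theorem exists_section_cokernel (j : ℕ) : Injective (cokernel (ηf (J := J) f (c.I j))) ∧
    ∃ s, s ≫ cokernel.π (ηf (J := J) f (c.I j)) = 𝟙 _ := by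
  haveI := c.inj j
  haveI := mono_ηf f hcov (c.I j)
  haveI : Injective ((fPP J f).obj (c.I j)) := injective_fTo J f _ (injective_rMap J f _ (c.inj j))
  let sc := ShortComplex.mk _ _ (cokernel.condition (ηf (J := J) f (c.I j)))
  let sp := ShortComplex.Splitting.ofExactOfRetraction sc
    (ShortComplex.exact_of_g_is_cokernel _ (cokernelIsCokernel _))
    (Injective.factorThru (𝟙 _) (ηf (J := J) f (c.I j))) (Injective.comp_factorThru _ _)
    (inferInstanceAs (Epi (cokernel.π _)))
  exact ⟨Retract.injective { i := sp.s, r := sc.g, retract := sp.s_g }, sp.s, sp.s_g⟩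

include hs hf hc hcov in
theorem isZero_rightDerived_Q {n : ℕ} (hV : Van h A' n) :
    ∀ j a : ℕ, 1 ≤ a → a + j ≤ n →
      IsZero (((εX h Y).rightDerived a).obj (cokernel (ηf (J := J) f (c.S j)))) := by
  haveI : ∀ G, Mono (ηf (J := J) f G) := fun G => mono_ηf f hcov G
  intro j
  induction j with
  | zero =>
    intro a ha ha'
    refine hV Y _ ?_ a ha (by omega)
    have hm := mem_cokernel_η hs f hf c hc
    obtain ⟨-, ⟨e⟩⟩ := epi_εA_cokernel _ (ηf (J := J) f (c.S 0)) (hs.h3 Y _ hm)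
    exact (A' Y).prop_of_iso e.symm hm
  | succ j ih =>
    intro a ha ha'
    obtain ⟨b, rfl⟩ : ∃ b, a = b + 1 := ⟨a - 1, by omega⟩
    obtain ⟨B, bm, ι, γ, w₁, w₂, -, -, h₁, h₂⟩ :=
      exists_two_sequences (fPP J f) (ηf f) (ηf_nat f) (c.shortExact j)
    letI := HasDerivedCategory.standard (Sheaf (J.over Y) AddCommGrpCat.{u})
    letI := HasDerivedCategory.standard (Sheaf (J'.over Y) AddCommGrpCat.{u})
    haveI := (exists_section_cokernel f hcov c j).1
    have hB : IsZero (((εX h Y).rightDerived (b + 1)).obj B) :=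
      RFPlus.isZero_rightDerived_X₃ (εX h Y) _ h₁ (b + 1)
        ((εX h Y).isZero_rightDerived_obj_injective_succ b (cokernel (ηf (J := J) f (c.I j))))
        (ih (b + 1 + 1) (by omega) (by omega))
    refine RFPlus.isZero_rightDerived_X₂ (εX h Y) _ h₂ (b + 1) hB (hV Y _ ?_ (b + 1) ha (by omega))
    have hm := mem_cokernel_p hs hV f hf c hc j (by omega)
    obtain ⟨-, ⟨e⟩⟩ := epi_εA_cokernel _ ((fPP J f).map (c.p j)) (hs.h3 Y _ hm)
    exact (A' Y).prop_of_iso e.symm hm

include hs hf hc hcov in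
theorem epi_εX_π_Q {n : ℕ} (hV : Van h A' n) :
    Epi ((εX h Y).map (cokernel.π (ηf (J := J) f (c.S n)))) := by
  haveI : ∀ G, Mono (ηf (J := J) f G) := fun G => mono_ηf f hcov G
  cases n with
  | zero => exact (epi_εA_cokernel _ _ (hs.h3 Y _ (mem_cokernel_η hs f hf c hc))).1
  | succ m =>
    obtain ⟨-, s, hs'⟩ := exists_section_cokernel f hcov c m
    refine epi_map_π_next (fPP J f) (ηf f) (ηf_nat f) (c.shortExact m) (εX h Y)
      (SplitEpi.mk ((εX h Y).map s) (by
        rw [← (εX h Y).map_comp, hs', CategoryTheory.Functor.map_id])).epi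
      (epi_εA_cokernel _ _ (hs.h3 Y _ (mem_cokernel_p hs hV f hf c hc m (by omega)))).1 fun B b w hse => ?_
    letI := HasDerivedCategory.standard (Sheaf (J.over Y) AddCommGrpCat.{u})
    letI := HasDerivedCategory.standard (Sheaf (J'.over Y) AddCommGrpCat.{u})
    exact (RFPlus.shortExact_map_of_isZero (εX h Y) _ hse
      (isZero_rightDerived_Q hs f hf hcov c hc hV m 1 le_rfl (by omega))).epi_g

include hs hf hc hcov in
/-- A section which lifts on the base change of a cover lifts locally for the coarser topology. -/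
theorem lifts_of_lift_pullback {n : ℕ} (hV : Van h A' n) {Z : Over Y}
    (x : (c.S (n + 1)).obj.obj (op Z)) (y : ((fPP J f).obj (c.I n)).obj.obj (op Z))
    (hy : ((fPP J f).map (c.p n)).hom.app (op Z) y = (ηf (J := J) f (c.S (n + 1))).hom.app (op Z) x) :
    Lifts ((εX h Y).map (c.p n)) x := by
  haveI : ∀ G, Mono (ηf (J := J) f G) := fun G => mono_ηf f hcov G
  haveI := mono_qmap' (fPP J f) (ηf f) (ηf_nat f) (c.i n) (c.p n) (c.w n) (c.shortExact n)
  have hsum : ∀ (V : Over Y) (t : ((fPP J f).obj (c.S n)).obj.obj (op V)),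
      ((fPP J f).map (c.p n)).hom.app (op V) (((fPP J f).map (c.i n)).hom.app (op V) t) = 0 :=
    app_zero (by rw [← Functor.map_comp, c.w, Functor.map_zero])
  obtain ⟨q, hq⟩ := exists_lift_of_exact (qmap (fPP J f) (ηf f) (ηf_nat f) (c.i n))
    (qmap (fPP J f) (ηf f) (ηf_nat f) (c.p n))
    (qmap_comp_zero (fPP J f) (ηf f) (ηf_nat f) (c.i n) (c.p n) (c.w n))
    (exact_qmap' (fPP J f) (ηf f) (ηf_nat f) (c.i n) (c.p n) (c.w n) (c.shortExact n))
    ((cokernel.π (ηf (J := J) f (c.I n))).hom.app (op Z) y) (by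
      rw [app_comm (π_qmap (fPP J f) (ηf f) (ηf_nat f) (c.p n)) Z y, hy]
      exact app_zero (cokernel.condition _) Z x)
  haveI := epi_εX_π_Q hs f hf hcov c hc hV
  refine (J'.over Y).superset_covering ?_ ((epi_iff_lifts ((εX h Y).map (cokernel.π (ηf (J := J) f (c.S n))))).1
    inferInstance Z q)
  intro V g hg
  obtain ⟨t, ht⟩ := hg
  replace ht : (cokernel.π (ηf (J := J) f (c.S n))).hom.app (op V) t =
      (cokernel (ηf (J := J) f (c.S n))).obj.map g.op q := ht
  obtain ⟨z, hz⟩ := exists_lift_of_exact (ηf (J := J) f (c.I n)) (cokernel.π _) (cokernel.condition _)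
    (ShortComplex.exact_of_g_is_cokernel _ (cokernelIsCokernel _))
    (((fPP J f).obj (c.I n)).obj.map g.op y - ((fPP J f).map (c.i n)).hom.app (op V) t) (by
      rw [map_sub, NatTrans.naturality_apply, ← hq, ← NatTrans.naturality_apply, ← ht, sub_eq_zero]
      exact app_comm (π_qmap (fPP J f) (ηf f) (ηf_nat f) (c.i n)) V t)
  refine ⟨z, ?_⟩
  have goal : (c.p n).hom.app (op V) z = (c.S (n + 1)).obj.map g.op x := by
    refine sec_injective (ηf (J := J) f (c.S (n + 1))) V ?_
    rw [app_comm (ηf_nat f (c.p n)) V z, hz, map_sub, NatTrans.naturality_apply, hy,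
      ← NatTrans.naturality_apply, hsum, sub_zero]
  exact goal

include hs hf hc hcov in
/-- The key step: a class killed locally upstairs of a cover is killed locally. -/
theorem lifts_top_of_cover {n : ℕ} (hV : Van h A' n) (x : (c.S (n + 1)).obj.obj (op (Over.mk (𝟙 Y))))
    (hx : Lifts ((εX h Y).map (c.p n))
      ((c.S (n + 1)).obj.map (Over.homMk f (Category.comp_id f) : Over.mk f ⟶ Over.mk (𝟙 Y)).op x)) :
    Lifts ((εX h Y).map (c.p n)) x := by
  let p' := (εX h Y).map (c.p n)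
  obtain ⟨b, hb⟩ := exists_image_sec p' _ hx
  have hbl : Lifts (Abelian.factorThruImage p') b :=
    (epi_iff_lifts (Abelian.factorThruImage p')).1 inferInstance _ b
  have hι : ∀ ⦃Z : Over Y⦄ (m : Z ⟶ Over.mk f) (m' : Z ⟶ Over.mk (𝟙 Y)),
      (Abelian.image.ι p').hom.app (op Z) ((Abelian.image p').obj.map m.op b) =
        (c.S (n + 1)).obj.map m'.op x := fun Z m m' => by
    rw [NatTrans.naturality_apply, hb,
      show m' = m ≫ (Over.homMk f (Category.comp_id f) : Over.mk f ⟶ Over.mk (𝟙 Y)) from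
        Over.OverMorphism.ext (by simpa using (Over.w m').trans (Over.w m).symm)]
    exact (ConcreteCategory.congr_hom ((c.S (n + 1)).obj.map_comp _ m.op) x).symm
  obtain ⟨S, hS, hS'⟩ := exists_cover_lifts_pullback (J := J) f hcov (Abelian.factorThruImage p')
    (hs.h3 Y _ (mem_cokernel_image hs hV f hf c hc n le_rfl)) b hbl 0 (by
      rw [map_zero, eq_comm, sub_eq_zero]
      exact sec_injective (Abelian.image.ι p') _ ((hι (sndTo f (Over.mk f))
        (sndTo f (Over.mk f) ≫ Over.homMk f (Category.comp_id f))).trans (hι (cntTo f (Over.mk f)) _).symm))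
  refine lifts_of_local p' x S hS fun Z g hg => ?_
  obtain ⟨t, ht⟩ := hS' g hg
  refine lifts_of_lift_pullback hs f hf hcov c hc hV _ t ?_
  change p'.hom.app _ t = (c.S (n + 1)).obj.map (cntTo f Z).op ((c.S (n + 1)).obj.map g.op x)
  rw [← ConcreteCategory.comp_apply, ← Functor.map_comp, ← op_comp, ← hι (sndTo f Z) (cntTo f Z ≫ g), ← ht]
  exact (ConcreteCategory.congr_hom
    (NatTrans.congr_app (congrArg (sheafToPresheaf _ _).map (Abelian.image.fac p')) _) t).symm

end Cover

end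

end Groth.Agent.CmpSit16
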