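import Groth.Agent.Lib.CmpSit16.Slices
import Groth.Prelude.Def_WeakSerre
import Mathlib.CategoryTheory.Abelian.Refinements

/-! Comparing two topologies: the induction on `R^n ε_*`. -/

universe u

open CategoryTheory CategoryTheory.Limits Opposite Abelian

set_option autoImplicit false
set_option linter.style.haveILetI false
set_option linter.unusedSectionVars false
set_option backward.isDefEq.respectTransparency false
set_option backward.isDefEq.respectTransparency.types false

namespace Groth.Agent.CmpSit16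

noncomputable section

section General

variable {D : Type u} [SmallCategory D] {T : GrothendieckTopology D} {F G : Sheaf T AddCommGrpCat.{u}}

theorem exists_image_sec (φ : F ⟶ G) {U : D} (s : G.obj.obj (op U)) (hs : Lifts φ s) :
    ∃ t, (Abelian.image.ι φ).hom.app (op U) t = s :=
  exists_lift_of_exact (Abelian.image.ι φ) (cokernel.π φ) (kernel.condition _)
    (ShortComplex.exact_of_f_is_kernel _ (kernelIsKernel _)) s (π_eq_zero_of_lifts φ s hs)

theorem lifts_of_local (φ : F ⟶ G) {U : D} (s : G.obj.obj (op U)) (S : Sieve U) (hS : S ∈ T U)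
    (h : ∀ ⦃V : D⦄ (g : V ⟶ U), S g → Lifts φ (G.obj.map g.op s)) : Lifts φ s := by
  refine T.transitive hS _ fun V g hg => T.superset_covering (fun W a ha => ?_) (h g hg)
  obtain ⟨t, ht⟩ := ha
  refine ⟨t, ht.trans ?_⟩
  rw [op_comp, Functor.map_comp, ConcreteCategory.comp_apply]

theorem rightDerived_iso_of_natIso {A B : Type*} [Category A] [Category B] [Abelian A] [Abelian B]
    [HasInjectiveResolutions A] {F G : A ⥤ B} [F.Additive] [G.Additive] (e : F ≅ G) (n : ℕ) :
    Nonempty (F.rightDerived n ≅ G.rightDerived n) :=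
  ⟨{ hom := NatTrans.rightDerived e.hom n
     inv := NatTrans.rightDerived e.inv n
     hom_inv_id := by rw [← NatTrans.rightDerived_comp, e.hom_inv_id, NatTrans.rightDerived_id]
     inv_hom_id := by rw [← NatTrans.rightDerived_comp, e.inv_hom_id, NatTrans.rightDerived_id] }⟩

theorem shortExact_factorThruImage {A : Type*} [Category A] [Abelian A] {K L M : A} (i : K ⟶ L) (p : L ⟶ M)
    (w : i ≫ p = 0) (hex : (ShortComplex.mk i p w).Exact) [Mono i] :
    (ShortComplex.mk i (Abelian.factorThruImage p) ((cancel_mono (Abelian.image.ι p)).1 (by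
      rw [Category.assoc, Abelian.image.fac, w, zero_comp]))).ShortExact := by
  refine ShortComplex.ShortExact.mk' ?_ inferInstance (inferInstanceAs (Epi (Abelian.factorThruImage p)))
  rw [ShortComplex.exact_iff_exact_up_to_refinements]
  intro T x hx
  exact hex.exact_up_to_refinements x ((congrArg (x ≫ ·) (Abelian.image.fac p)).symm.trans
    (by rw [reassoc_of% hx, zero_comp]))

end General

variable {C : Type u} [SmallCategory C] {J J' : GrothendieckTopology C} (h : J' ≤ J)
  (P : MorphismProperty C) (A' : ∀ X : C, ObjectProperty (Sheaf (J'.over X) AddCommGrpCat.{u}))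

/-- `ε` on a slice. -/
abbrev εX (X : C) : Sheaf (J.over X) AddCommGrpCat.{u} ⥤ Sheaf (J'.over X) AddCommGrpCat.{u} :=
  εA (SiteCmp.over_le h X)

/-- The hypotheses (1)–(4) of the comparison situation. -/
structure Sit : Prop where
  h1 : ∀ ⦃X Y : C⦄ (f : X ⟶ Y), P f → ∀ ⦃Y' : C⦄ (g : Y' ⟶ Y),
      ∃ (W : C) (p : W ⟶ Y') (q : W ⟶ X), IsPullback p q g f ∧ P p
  h2 : ∀ ⦃X Y : C⦄ (f : X ⟶ Y) (F' : Sheaf (J'.over Y) AddCommGrpCat.{u}), A' Y F' →
      A' X ((CohSite.push (J'.over Y) (J'.over X) (Over.map f)).obj F')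
  h3 : ∀ (X : C) (F' : Sheaf (J'.over X) AddCommGrpCat.{u}), A' X F' → Presheaf.IsSheaf (J.over X) F'.obj
  h4 : ∀ ⦃X Y : C⦄ (f : X ⟶ Y)
      [((Over.map f).sheafPushforwardCocontinuous AddCommGrpCat.{u} (J'.over X) (J'.over Y)).Additive],
      P f → ∀ (F' : Sheaf (J'.over X) AddCommGrpCat.{u}), A' X F' → ∀ i : ℕ,
        A' Y ((((Over.map f).sheafPushforwardCocontinuous AddCommGrpCat.{u} (J'.over X) (J'.over Y)).rightDerived i).obj F')

/-- The hypothesis `V_n`. -/
def Van (n : ℕ) : Prop :=
  ∀ (Z : C) (G : Sheaf (J.over Z) AddCommGrpCat.{u}), A' Z ((εX h Z).obj G) →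
    ∀ i : ℕ, 1 ≤ i → i ≤ n → IsZero (((εX h Z).rightDerived i).obj G)

variable {P A'} [∀ X : C, WSerre.IsWeakSerre (A' X)] (hs : Sit P A' (J := J) (J' := J'))

include hs in
theorem hasPullbacksAlong {X Y : C} {f : X ⟶ Y} (hf : P f) : HasPullbacksAlong f := fun {W} g => by
  obtain ⟨_, _, _, hp, -⟩ := hs.h1 f hf g
  exact hp.hasPullback

include hs in
theorem mem_rMap {X Y : C} (f : X ⟶ Y) (G : Sheaf (J.over Y) AddCommGrpCat.{u}) (hG : A' Y ((εX h Y).obj G)) :
    A' X ((εX h X).obj ((rMap J f).obj G)) :=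
  hs.h2 f _ hG

include hs in
theorem mem_fTo_rightDerived {X Y : C} (f : X ⟶ Y) [HasPullbacksAlong f] (hf : P f)
    (F' : Sheaf (J'.over X) AddCommGrpCat.{u}) (hF : A' X F') (i : ℕ) :
    A' Y (((fTo J' f).rightDerived i).obj F') := by
  haveI : ((Over.map f).sheafPushforwardCocontinuous AddCommGrpCat.{u} (J'.over X) (J'.over Y)).Additive :=
    Functor.additive_of_iso (fToIso J' f)
  obtain ⟨e⟩ := rightDerived_iso_of_natIso (fToIso J' f) i
  exact (A' Y).prop_of_iso (e.app F').symm (hs.h4 f hf F' hF i)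

variable {h}

theorem epi_εX_p {n : ℕ} (hV : Van h A' n) {X : C} (c : Syz (Sheaf (J.over X) AddCommGrpCat.{u}))
    (hc : A' X ((εX h X).obj (c.S 0))) (j : ℕ) (hj : j < n) : Epi ((εX h X).map (c.p j)) :=
  (c.isZero_iff_epi (εX h X) j).1 (hV X (c.S 0) hc (j + 1) (by omega) (by omega))

/-- The `ε`-image of a short exact sequence in degrees `< n`. -/
theorem shortExact_εX {n : ℕ} (hV : Van h A' n) {X : C} (c : Syz (Sheaf (J.over X) AddCommGrpCat.{u}))
    (hc : A' X ((εX h X).obj (c.S 0))) (j : ℕ) (hj : j < n) : ((c.sc j).map (εX h X)).ShortExact := by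
  have hl := (εX h X).preservesFiniteLimits_iff_forall_exact_map_and_mono.1 inferInstance _ (c.shortExact j)
  haveI := epi_εX_p hV c hc j hj
  exact ShortComplex.ShortExact.mk' hl.1 hl.2 (inferInstanceAs (Epi ((εX h X).map (c.p j))))

include hs in
theorem mem_cokernel_image {n : ℕ} (hV : Van h A' n) {X Y : C} (f : X ⟶ Y) [HasPullbacksAlong f] (hf : P f)
    (c : Syz (Sheaf (J.over Y) AddCommGrpCat.{u})) (hc : A' Y ((εX h Y).obj (c.S 0))) (j : ℕ) (hj : j ≤ n) :
    A' Y (cokernel ((fPP J' f).map (Abelian.factorThruImage ((εX h Y).map (c.p j))))) := by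
  have hl := (εX h Y).preservesFiniteLimits_iff_forall_exact_map_and_mono.1 inferInstance _ (c.shortExact j)
  haveI : Mono ((εX h Y).map (c.i j)) := hl.2
  let S₀ : ShortComplex (Sheaf (J'.over Y) AddCommGrpCat.{u}) :=
    ShortComplex.mk ((εX h Y).map (c.i j)) (Abelian.factorThruImage ((εX h Y).map (c.p j)))
      ((cancel_mono (Abelian.image.ι _)).1 (by
        rw [Category.assoc, Abelian.image.fac, ← Functor.map_comp, c.w, Functor.map_zero, zero_comp]))
  have hse : S₀.ShortExact := shortExact_factorThruImage _ _ (by rw [← Functor.map_comp, c.w, Functor.map_zero]) hl.1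
  haveI : Injective (S₀.map (rMap J' f)).X₂ := injective_rMap J' f _ (injective_εA (SiteCmp.over_le h Y) _ (c.inj j))
  obtain ⟨e⟩ := nonempty_R_iso_cokernel (fTo J' f) (fun i => (rMap J' f).obj ((εX h Y).obj (c.S i))) j
    (fun i hi => ⟨((c.sc i).map (εX h Y)).map (rMap J' f),
      (shortExact_εX hV c hc i (by omega)).map_of_exact _,
      injective_rMap J' f _ (injective_εA (SiteCmp.over_le h Y) _ (c.inj i)), rfl, rfl⟩)
    (S := S₀.map (rMap J' f)) (hse.map_of_exact _) rfl
  exact (A' Y).prop_of_iso e (mem_fTo_rightDerived hs f hf _ (hs.h2 f _ hc) (j + 1))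

include hs in
theorem mem_fPP {X Y : C} (f : X ⟶ Y) [HasPullbacksAlong f] (hf : P f)
    (G : Sheaf (J.over Y) AddCommGrpCat.{u}) (hG : A' Y ((εX h Y).obj G)) :
    A' Y ((εX h Y).obj ((fPP J f).obj G)) :=
  (A' Y).prop_of_iso ((fTo J' f).rightDerivedZeroIsoSelf.app _)
    (mem_fTo_rightDerived hs f hf _ (hs.h2 f _ hG) 0)

include hs in
/-- The cokernel of `f_*f^* p` in degrees `< n`. -/
theorem mem_cokernel_p {n : ℕ} (hV : Van h A' n) {X Y : C} (f : X ⟶ Y) [HasPullbacksAlong f] (hf : P f)
    (c : Syz (Sheaf (J.over Y) AddCommGrpCat.{u})) (hc : A' Y ((εX h Y).obj (c.S 0))) (j : ℕ) (hj : j < n) :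
    A' Y (cokernel ((εX h Y).map ((fPP J f).map (c.p j)))) := by
  haveI := epi_εX_p hV c hc j hj
  haveI : IsIso (Abelian.image.ι ((εX h Y).map (c.p j))) := by
    haveI : Epi (Abelian.image.ι ((εX h Y).map (c.p j))) :=
      epi_of_epi_fac (Abelian.image.fac ((εX h Y).map (c.p j)))
    exact isIso_of_mono_of_epi _
  refine (A' Y).prop_of_iso (cokernel.mapIso _ _ (Iso.refl _)
    ((fPP J' f).mapIso (asIso (Abelian.image.ι ((εX h Y).map (c.p j))))) ?_) (mem_cokernel_image hs hV f hf c hc j hj.le)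
  rw [Iso.refl_hom, Functor.mapIso_hom, asIso_hom, ← Functor.map_comp, Abelian.image.fac]
  exact (Category.id_comp _).symm

section Separation

variable {X Y : C} (f : X ⟶ Y) [HasPullbacksAlong f]

/-- The projection of a base change to the base. -/
def sndTo (Z : Over Y) : (Over.map f).obj ((Over.pullback f).obj Z) ⟶ Over.mk f :=
  Over.homMk (pullback.snd Z.hom f) rfl

/-- The projection of a base change to the object. -/
def cntTo (Z : Over Y) : (Over.map f).obj ((Over.pullback f).obj Z) ⟶ Z :=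
  (Over.mapPullbackAdj f).counit.app Z

theorem sndTo_naturality {Z Z' : Over Y} (g : Z' ⟶ Z) :
    (Over.map f).map ((Over.pullback f).map g) ≫ sndTo f Z = sndTo f Z' := by
  apply Over.OverMorphism.ext
  simp [sndTo]

theorem counit_naturality {Z Z' : Over Y} (g : Z' ⟶ Z) :
    (Over.map f).map ((Over.pullback f).map g) ≫ cntTo f Z = cntTo f Z' ≫ g :=
  (Over.mapPullbackAdj f).counit.naturality g

/-- Classes which agree on the fibre product and die on the source die on the base change of a cover. -/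
theorem exists_cover_lifts_pullback (hcov : Sieve.ofArrows (fun _ : PUnit.{u + 1} => X) (fun _ => f) ∈ J Y)
    {I B : Sheaf (J'.over Y) AddCommGrpCat.{u}} (φ : I ⟶ B)
    (hM : Presheaf.IsSheaf (J.over Y) (cokernel ((fPP J' f).map φ)).obj)
    (b : B.obj.obj (op (Over.mk f))) (hb : Lifts φ b)
    (y : I.obj.obj (op ((Over.map f).obj ((Over.pullback f).obj (Over.mk f)))))
    (hy : φ.hom.app _ y = B.obj.map (sndTo f (Over.mk f)).op b -
      B.obj.map (cntTo f (Over.mk f)).op b) :
    ∃ S ∈ (J'.over Y) (Over.mk (𝟙 Y)), ∀ ⦃Z : Over Y⦄ (g : Z ⟶ Over.mk (𝟙 Y)), S g →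
      ∃ t : I.obj.obj (op ((Over.map f).obj ((Over.pullback f).obj Z))),
        φ.hom.app _ t = B.obj.map (sndTo f Z).op b := by
  let top : Over Y := Over.mk (𝟙 Y)
  let M := cokernel ((fPP J' f).map φ)
  let π := cokernel.π ((fPP J' f).map φ)
  let s : M.obj.obj (op top) := π.hom.app (op top) (B.obj.map (sndTo f top).op b)
  have hres : ∀ ⦃Z : Over Y⦄ (g : Z ⟶ top), M.obj.map g.op s =
      π.hom.app (op Z) (B.obj.map (sndTo f Z).op b) := fun Z g => by
    change M.obj.map g.op (π.hom.app (op top) _) = _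
    rw [← NatTrans.naturality_apply]
    refine congrArg _ ?_
    change B.obj.map ((Over.map f).map ((Over.pullback f).map g)).op (B.obj.map (sndTo f top).op b) = _
    rw [← ConcreteCategory.comp_apply, ← Functor.map_comp, ← op_comp, sndTo_naturality]
  have hs0 : s = 0 := by
    let R : Sieve top := Sieve.ofArrows (fun _ : PUnit.{u + 1} => Over.mk f)
      fun _ => (Over.homMk f (Category.comp_id f) : Over.mk f ⟶ top)
    have hR : R ∈ (J.over Y) top := by
      rw [GrothendieckTopology.mem_over_iff]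
      refine J.superset_covering ?_ hcov
      rintro V a ⟨W₀, b', _, ⟨⟩, hb'⟩
      rw [Sieve.overEquiv_iff]
      exact ⟨Over.mk f, (Over.homMk b' (by simpa [top] using hb') : Over.mk (a ≫ top.hom) ⟶ Over.mk f),
        _, ⟨PUnit.unit⟩, Over.OverMorphism.ext hb'⟩
    refine Presheaf.IsSheaf.isSeparated hM top R hR s 0 ?_
    rintro Z g ⟨W₀, a, _, ⟨⟩, rfl⟩
    rw [map_zero, op_comp, Functor.map_comp, ConcreteCategory.comp_apply, hres]
    suffices h0 : π.hom.app (op (Over.mk f)) (B.obj.map (sndTo f (Over.mk f)).op b) = 0 by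
      rw [h0, map_zero]
    refine sep (G := M) hb _ _ fun V a' ha' => ?_
    obtain ⟨t, ht⟩ := ha'
    rw [map_zero, ← NatTrans.naturality_apply]
    refine π_eq_zero_of_lifts _ _ ?_
    refine GrothendieckTopology.superset_covering _ ?_ (GrothendieckTopology.top_mem _ V)
    intro W a'' _
    refine ⟨I.obj.map ((Over.map f).map ((Over.pullback f).map a'')).op
      (I.obj.map ((Over.map f).map ((Over.pullback f).map a')).op y +
        I.obj.map (cntTo f V).op t), ?_⟩
    change φ.hom.app _ _ = B.obj.map ((Over.map f).map ((Over.pullback f).map a'')).op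
      (B.obj.map ((Over.map f).map ((Over.pullback f).map a')).op (B.obj.map (sndTo f (Over.mk f)).op b))
    rw [NatTrans.naturality_apply]
    refine congrArg _ ?_
    rw [map_add, NatTrans.naturality_apply, NatTrans.naturality_apply, hy, ht, map_sub,
      ← ConcreteCategory.comp_apply (B.obj.map a'.op), ← Functor.map_comp, ← op_comp, ← counit_naturality,
      op_comp, Functor.map_comp, ConcreteCategory.comp_apply]
    exact sub_add_cancel _ _
  refine ⟨_, lifts_of_π_eq_zero ((fPP J' f).map φ) (B.obj.map (sndTo f top).op b) hs0, fun Z g hg => ?_⟩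
  obtain ⟨t, ht⟩ := hg
  refine ⟨t, ht.trans ?_⟩
  change B.obj.map ((Over.map f).map ((Over.pullback f).map g)).op (B.obj.map (sndTo f top).op b) = _
  rw [← ConcreteCategory.comp_apply, ← Functor.map_comp, ← op_comp, sndTo_naturality]

end Separation

end

end Groth.Agent.CmpSit16
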