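import Groth.Agent.Lib.SiteCoh.OverSite
import Groth.Agent.Lib.CmpSit16.Coho
import Groth.Prelude.Def_SiteCmp
import Groth.Prelude.Def_CohSite
import Mathlib.Algebra.Homology.ShortComplex.Ab

/-! Restriction to slices, direct image along base change, change of topology: basic exactness. -/

universe u

open CategoryTheory CategoryTheory.Limits Opposite Abelian

set_option autoImplicit false
set_option linter.style.haveILetI false
set_option linter.unusedSectionVars false
set_option backward.isDefEq.respectTransparency false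
set_option backward.isDefEq.respectTransparency.types false

namespace Groth.Agent.CmpSit16

noncomputable section

section Sheaves

variable {D : Type u} [SmallCategory D] {T : GrothendieckTopology D} {F G : Sheaf T AddCommGrpCat.{u}}

/-- A section lifts locally along a map. -/
def Lifts (φ : F ⟶ G) {U : D} (s : G.obj.obj (op U)) : Prop := Presheaf.imageSieve φ.hom s ∈ T U

theorem epi_iff_lifts (φ : F ⟶ G) : Epi φ ↔ ∀ (U : D) (s : G.obj.obj (op U)), Lifts φ s := by
  rw [← Sheaf.isLocallySurjective_iff_epi' _ φ]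
  exact ⟨fun h U s => h.imageSieve_mem s, fun h => ⟨fun s => h _ s⟩⟩

/-- Sections at an object. -/
abbrev secFun (T : GrothendieckTopology D) (U : D) : Sheaf T AddCommGrpCat.{u} ⥤ AddCommGrpCat.{u} :=
  sheafToPresheaf T AddCommGrpCat.{u} ⋙ (evaluation Dᵒᵖ AddCommGrpCat.{u}).obj (op U)

theorem sec_injective (φ : F ⟶ G) [Mono φ] (U : D) : Function.Injective (φ.hom.app (op U)) :=
  (AddCommGrpCat.mono_iff_injective _).1 (inferInstanceAs (Mono ((secFun T U).map φ)))

theorem exists_lift_of_exact {H : Sheaf T AddCommGrpCat.{u}} (f : F ⟶ G) (g : G ⟶ H) (w : f ≫ g = 0)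
    (hex : (ShortComplex.mk f g w).Exact) [Mono f] {U : D} (s : G.obj.obj (op U))
    (hs : g.hom.app (op U) s = 0) : ∃ t, f.hom.app (op U) t = s := by
  have h := hex.map_of_mono_of_preservesKernel (secFun T U) (inferInstanceAs (Mono f)) inferInstance
  exact (ShortComplex.ab_exact_iff _).1 h s hs

theorem sep {U : D} {S : Sieve U} (hS : S ∈ T U) (x y : G.obj.obj (op U))
    (h : ∀ ⦃V : D⦄ (g : V ⟶ U), S g → G.obj.map g.op x = G.obj.map g.op y) : x = y :=
  Presheaf.IsSheaf.isSeparated G.property U S hS x y h

theorem π_eq_zero_of_lifts (φ : F ⟶ G) {U : D} (s : G.obj.obj (op U)) (h : Lifts φ s) :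
    (cokernel.π φ).hom.app (op U) s = 0 := by
  refine sep h _ _ fun V g hg => ?_
  obtain ⟨t, ht⟩ := hg
  rw [map_zero, ← NatTrans.naturality_apply, ← ht]
  exact ConcreteCategory.congr_hom
    (NatTrans.congr_app (congrArg (sheafToPresheaf T AddCommGrpCat.{u}).map (cokernel.condition φ)) (op V)) t

theorem lifts_of_π_eq_zero (φ : F ⟶ G) {U : D} (s : G.obj.obj (op U))
    (h : (cokernel.π φ).hom.app (op U) s = 0) : Lifts φ s := by
  obtain ⟨t, ht⟩ := exists_lift_of_exact (Abelian.image.ι φ) (cokernel.π φ) (kernel.condition _)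
    (ShortComplex.exact_of_f_is_kernel _ (kernelIsKernel _)) s h
  refine T.superset_covering (fun V g hg => ?_) ((epi_iff_lifts (Abelian.factorThruImage φ)).1 inferInstance U t)
  obtain ⟨a, ha⟩ := hg
  refine ⟨a, ?_⟩
  rw [← ht, ← NatTrans.naturality_apply, ← ha, ← ConcreteCategory.comp_apply]
  exact (ConcreteCategory.congr_hom
    (NatTrans.congr_app (congrArg (sheafToPresheaf T AddCommGrpCat.{u}).map (Abelian.image.fac φ)) (op V)) a).symm

end Sheaves

section Slices

variable {C : Type u} [SmallCategory C] (J : GrothendieckTopology C)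

/-- Restriction along a map of bases. -/
abbrev rMap {Z X : C} (g : Z ⟶ X) : Sheaf (J.over X) AddCommGrpCat.{u} ⥤ Sheaf (J.over Z) AddCommGrpCat.{u} :=
  CohSite.push (J.over X) (J.over Z) (Over.map g)

instance preservesFiniteLimits_rMap {Z X : C} (g : Z ⟶ X) : PreservesFiniteLimits (rMap J g) := by
  haveI : (rMap J g).IsRightAdjoint :=
    ((Over.map g).sheafAdjunctionContinuous AddCommGrpCat.{u} (J.over Z) (J.over X)).isRightAdjoint
  infer_instance

instance preservesFiniteColimits_rMap {Z X : C} (g : Z ⟶ X) : PreservesFiniteColimits (rMap J g) := by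
  haveI : (rMap J g).IsLeftAdjoint :=
    ((Over.map g).sheafAdjunctionCocontinuous AddCommGrpCat.{u} (J.over Z) (J.over X)).isLeftAdjoint
  infer_instance

instance additive_rMap {Z X : C} (g : Z ⟶ X) : (rMap J g).Additive :=
  Functor.additive_of_preserves_binary_products _

theorem preservesMonomorphisms_lan_overMap {Z X : C} (g : Z ⟶ X) :
    ((Over.map g).op.lan : ((Over Z)ᵒᵖ ⥤ AddCommGrpCat.{u}) ⥤ _).PreservesMonomorphisms := by
  let base : ∀ {V : (Over X)ᵒᵖ}, CostructuredArrow (Over.map g).op V → (V.unop.left ⟶ Z) :=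
    fun i => i.hom.unop.left ≫ i.left.unop.hom
  have hb : ∀ {V : (Over X)ᵒᵖ} (i : CostructuredArrow (Over.map g).op V), base i ≫ g = V.unop.hom :=
    fun i => (Category.assoc _ _ _).trans (Over.w i.hom.unop)
  have hbase : ∀ {V : (Over X)ᵒᵖ} {i j : CostructuredArrow (Over.map g).op V} (_ : i ⟶ j), base j = base i := by
    intro V i j p
    have h : j.hom.unop.left ≫ p.left.unop.left = i.hom.unop.left :=
      congrArg (fun q => q.unop.left) (CostructuredArrow.w p)
    show j.hom.unop.left ≫ j.left.unop.hom = i.hom.unop.left ≫ i.left.unop.hom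
    rw [← h, Category.assoc, Over.w p.left.unop]
  let can : ∀ {V : (Over X)ᵒᵖ} (b : V.unop.left ⟶ Z) (_ : b ≫ g = V.unop.hom),
      CostructuredArrow (Over.map g).op V := fun {V} b hb =>
    CostructuredArrow.mk (Y := op (Over.mk b)) (S := (Over.map g).op)
      ((Over.homMk (𝟙 V.unop.left) ((Category.id_comp _).trans hb) :
        V.unop ⟶ (Over.map g).obj (Over.mk b))).op
  have hto : ∀ {V : (Over X)ᵒᵖ} (i : CostructuredArrow (Over.map g).op V) (b : V.unop.left ⟶ Z)
      (h : b ≫ g = V.unop.hom), base i = b → Nonempty (i ⟶ can b h) := fun {V} i b h hb' =>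
    ⟨CostructuredArrow.homMk (Over.homMk i.hom.unop.left hb' : Over.mk b ⟶ i.left.unop).op
      (Quiver.Hom.unop_inj (Over.OverMorphism.ext (Category.id_comp _)))⟩
  have huniq : ∀ {V : (Over X)ᵒᵖ} {i : CostructuredArrow (Over.map g).op V} {b : V.unop.left ⟶ Z}
      {h : b ≫ g = V.unop.hom} (p q : i ⟶ can b h), p = q := fun {V i b h} p q => by
    apply CostructuredArrow.hom_ext
    apply Quiver.Hom.unop_inj
    apply Over.OverMorphism.ext
    have hp := congrArg (fun r => r.unop.left) (CostructuredArrow.w p)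
    have hq := congrArg (fun r => r.unop.left) (CostructuredArrow.w q)
    exact ((Category.id_comp _).symm.trans hp).trans (hq.symm.trans (Category.id_comp _))
  refine SiteCoh.preservesMonomorphisms_lan_of _ (fun V {i j k} p q => ?_) (fun V {i j} p q => ?_)
  · exact ⟨can (base i) (hb i), hto j _ (hb i) (hbase p), hto k _ (hb i) (hbase q)⟩
  · obtain ⟨h⟩ := hto j _ (hb i) (hbase p)
    exact ⟨_, h, huniq (h := hb i) _ _⟩

theorem injective_rMap {Z X : C} (g : Z ⟶ X) (I : Sheaf (J.over X) AddCommGrpCat.{u}) (hI : Injective I) :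
    Injective ((rMap J g).obj I) := by
  let G := Over.map g
  haveI := preservesMonomorphisms_lan_overMap g
  haveI : (Functor.sheafPullbackConstruction.sheafPullback G AddCommGrpCat.{u} (J.over Z)
      (J.over X)).PreservesMonomorphisms := by
    haveI : (presheafToSheaf (J.over X) AddCommGrpCat.{u}).PreservesMonomorphisms :=
      preservesMonomorphisms_of_preservesLimitsOfShape _
    haveI : (G.op.lan ⋙ presheafToSheaf (J.over X) AddCommGrpCat.{u}).PreservesMonomorphisms :=
      Functor.preservesMonomorphisms_comp _ _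
    exact Functor.preservesMonomorphisms_comp (sheafToPresheaf (J.over Z) AddCommGrpCat.{u}) _
  haveI : (G.sheafPullback AddCommGrpCat.{u} (J.over Z) (J.over X)).PreservesMonomorphisms :=
    Functor.preservesMonomorphisms.of_iso
      (Functor.sheafPullbackConstruction.sheafPullbackIso G AddCommGrpCat.{u} (J.over Z) (J.over X)).symm
  exact (G.sheafAdjunctionContinuous AddCommGrpCat.{u} (J.over Z) (J.over X)).map_injective I hI

variable {X Y : C} (f : X ⟶ Y) [HasPullbacksAlong f]

instance isContinuous_pullback : (Over.pullback f).IsContinuous (J.over Y) (J.over X) :=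
  (Over.mapPullbackAdj f).isContinuous_of_isCocontinuous _ _

/-- Direct image along base change. -/
abbrev fTo : Sheaf (J.over X) AddCommGrpCat.{u} ⥤ Sheaf (J.over Y) AddCommGrpCat.{u} :=
  CohSite.push (J.over X) (J.over Y) (Over.pullback f)

/-- Restriction and direct image. -/
def fToAdj : rMap J f ⊣ fTo J f :=
  (Over.mapPullbackAdj f).sheafPushforwardContinuous (E := AddCommGrpCat.{u}) (J.over X) (J.over Y)

instance preservesFiniteLimits_fTo : PreservesFiniteLimits (fTo J f) := by
  haveI : (fTo J f).IsRightAdjoint := (fToAdj J f).isRightAdjoint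
  infer_instance

instance additive_fTo : (fTo J f).Additive :=
  Functor.additive_of_preserves_binary_products _

theorem injective_fTo (I : Sheaf (J.over X) AddCommGrpCat.{u}) (hI : Injective I) :
    Injective ((fTo J f).obj I) :=
  (fToAdj J f).map_injective I hI

/-- The direct image is Mathlib's cocontinuous pushforward. -/
def fToIso : fTo J f ≅ (Over.map f).sheafPushforwardCocontinuous AddCommGrpCat.{u} (J.over X) (J.over Y) :=
  (fToAdj J f).rightAdjointUniq
    ((Over.map f).sheafAdjunctionCocontinuous AddCommGrpCat.{u} (J.over X) (J.over Y))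

/-- `f_* f^*`. -/
abbrev fPP : Sheaf (J.over Y) AddCommGrpCat.{u} ⥤ Sheaf (J.over Y) AddCommGrpCat.{u} :=
  rMap J f ⋙ fTo J f

theorem fToAdj_unit (G : Sheaf (J.over Y) AddCommGrpCat.{u}) (Z : Over Y) (s : G.obj.obj (op Z)) :
    ((fToAdj J f).unit.app G).hom.app (op Z) s = G.obj.map ((Over.mapPullbackAdj f).counit.app Z).op s := rfl

theorem mono_unit (hf : Sieve.ofArrows (fun _ : PUnit.{u + 1} => X) (fun _ => f) ∈ J Y)
    (G : Sheaf (J.over Y) AddCommGrpCat.{u}) : Mono ((fToAdj J f).unit.app G) := by
  haveI : Mono ((sheafToPresheaf _ _).map ((fToAdj J f).unit.app G)) := by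
    haveI : ∀ U, Mono (((fToAdj J f).unit.app G).hom.app U) := fun U => by
      rw [AddCommGrpCat.mono_iff_injective]
      obtain ⟨Z⟩ := U
      intro s t hst
      let S : Sieve Z := Sieve.ofArrows (fun _ : PUnit.{u + 1} => (Over.map f).obj ((Over.pullback f).obj Z))
        fun _ => (Over.mapPullbackAdj f).counit.app Z
      refine sep (S := S) ?_ s t ?_
      · rw [GrothendieckTopology.mem_over_iff]
        refine J.superset_covering ?_ (J.pullback_stable Z.hom hf)
        rintro V a ⟨_, b, _, ⟨⟩, hb⟩
        rw [Sieve.overEquiv_iff]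
        exact ⟨(Over.map f).obj ((Over.pullback f).obj Z), (Over.homMk (pullback.lift a b hb.symm) (by
            change pullback.lift a b hb.symm ≫ pullback.snd _ _ ≫ f = a ≫ Z.hom
            rw [pullback.lift_snd_assoc, hb]) : Over.mk (a ≫ Z.hom) ⟶ (Over.map f).obj ((Over.pullback f).obj Z)),
          (Over.mapPullbackAdj f).counit.app Z, ⟨PUnit.unit⟩,
          Over.OverMorphism.ext (by simp)⟩
      · rintro V a ⟨_, b, _, ⟨⟩, rfl⟩
        rw [op_comp, Functor.map_comp, ConcreteCategory.comp_apply, ConcreteCategory.comp_apply]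
        exact congrArg _ hst
    exact @NatTrans.mono_of_mono_app _ _ _ _ _ _ ((fToAdj J f).unit.app G).hom this
  exact (sheafToPresheaf _ _).mono_of_mono_map this

end Slices

section Eps

variable {C : Type u} [SmallCategory C] {J J' : GrothendieckTopology C} (h : J' ≤ J)

/-- Regarding a sheaf for the finer topology as a sheaf for the coarser. -/
abbrev εA : Sheaf J AddCommGrpCat.{u} ⥤ Sheaf J' AddCommGrpCat.{u} := SiteCmp.epsSh h AddCommGrpCat.{u}

instance full_εA : (εA h).Full where
  map_surjective φ := ⟨⟨φ.hom⟩, rfl⟩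

instance faithful_εA : (εA h).Faithful where
  map_injective {F G} φ ψ he := by
    ext U x
    exact ConcreteCategory.congr_hom (NatTrans.congr_app (congrArg (sheafToPresheaf J' _).map he) U) x

instance preservesFiniteLimits_εA : PreservesFiniteLimits (εA h) := by
  haveI := SiteCmp.idContinuous h
  haveI : (εA h).IsRightAdjoint :=
    ((𝟭 C).sheafAdjunctionContinuous AddCommGrpCat.{u} J' J).isRightAdjoint
  infer_instance

instance additive_εA : (εA h).Additive :=
  Functor.additive_of_preserves_binary_products _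

theorem injective_εA (I : Sheaf J AddCommGrpCat.{u}) (hI : Injective I) : Injective ((εA h).obj I) := by
  haveI := SiteCmp.idContinuous h
  haveI : PreservesFiniteLimits ((𝟭 C).sheafPullback AddCommGrpCat.{u} J' J) :=
    Functor.sheafPullbackConstruction.preservesFiniteLimits _ _ _ _
  exact ((𝟭 C).sheafAdjunctionContinuous AddCommGrpCat.{u} J' J).map_injective I hI

theorem exists_epsSh_obj_eq (G' : Sheaf J' AddCommGrpCat.{u}) (hG : Presheaf.IsSheaf J G'.obj) :
    ∃ G : Sheaf J AddCommGrpCat.{u}, Nonempty ((εA h).obj G ≅ G') :=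
  ⟨⟨G'.obj, hG⟩, ⟨Iso.refl _⟩⟩

variable {F G : Sheaf J AddCommGrpCat.{u}} (φ : F ⟶ G)

theorem epi_εA_cokernel (hφ : Presheaf.IsSheaf J (cokernel ((εA h).map φ)).obj) :
    Epi ((εA h).map (cokernel.π φ)) ∧
      Nonempty ((εA h).obj (cokernel φ) ≅ cokernel ((εA h).map φ)) := by
  obtain ⟨Q, ⟨e⟩⟩ := exists_epsSh_obj_eq h _ hφ
  let q : G ⟶ Q := (εA h).preimage (cokernel.π ((εA h).map φ) ≫ e.inv)
  have hq : (εA h).map q = cokernel.π ((εA h).map φ) ≫ e.inv := Functor.map_preimage _ _
  have w : φ ≫ q = 0 := (εA h).map_injective (by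
    rw [Functor.map_comp, hq, cokernel.condition_assoc, zero_comp, Functor.map_zero])
  let k : cokernel φ ⟶ Q := cokernel.desc φ q w
  let l : Q ⟶ cokernel φ := (εA h).preimage (e.hom ≫ cokernel.desc ((εA h).map φ) ((εA h).map (cokernel.π φ))
    (by rw [← Functor.map_comp, cokernel.condition, Functor.map_zero]))
  have hl : q ≫ l = cokernel.π φ := (εA h).map_injective (by
    rw [Functor.map_comp, hq, Functor.map_preimage, Category.assoc, e.inv_hom_id_assoc, cokernel.π_desc])
  let i : cokernel φ ≅ Q :=
    { hom := k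
      inv := l
      hom_inv_id := coequalizer.hom_ext (by
        rw [← Category.assoc, cokernel.π_desc, hl, Category.comp_id])
      inv_hom_id := by
        apply (εA h).map_injective
        rw [Functor.map_comp, Functor.map_preimage, CategoryTheory.Functor.map_id, Category.assoc,
          ← e.hom_inv_id]
        congr 1
        apply coequalizer.hom_ext
        rw [cokernel.π_desc_assoc, ← Functor.map_comp, cokernel.π_desc, hq] }
  refine ⟨?_, ⟨(εA h).mapIso i ≪≫ e⟩⟩
  rw [← hl, Functor.map_comp, hq]
  haveI : IsIso ((εA h).map l) := inferInstanceAs (IsIso ((εA h).mapIso i.symm).hom)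
  infer_instance

end Eps

end

end Groth.Agent.CmpSit16
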